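import Mathlib

set_option autoImplicit false
universe u
open AlgebraicGeometry CategoryTheory

namespace Groth.Agent.ProjAvoid

variable {R A : Type u} [CommRing R] [CommRing A] [Algebra R A] (𝒜 : ℕ → Submodule R A) [GradedAlgebra 𝒜]

lemma exists_homogeneous (J : Ideal A) (hJ : J.IsHomogeneous 𝒜) (P : Ideal A) (h : ¬ J ≤ P) :
    ∃ d a, a ∈ 𝒜 d ∧ a ∈ J ∧ a ∉ P := by
  classical
  obtain ⟨x, hx, hxP⟩ := SetLike.not_le_iff_exists.1 h
  by_contra! hc
  exact hxP (by rw [← DirectSum.sum_support_decompose 𝒜 x]; exact sum_mem fun i _ => hc i _ (SetLike.coe_mem _) (hJ i hx))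

lemma exists_avoid (I : HomogeneousIdeal 𝒜) (s : Finset (ProjectiveSpectrum 𝒜)) :
    (∀ x ∈ s, ¬ I.toIdeal ≤ x.asHomogeneousIdeal.toIdeal) →
    ∃ d f, 0 < d ∧ f ∈ 𝒜 d ∧ f ∈ I ∧ ∀ x ∈ s, f ∉ x.asHomogeneousIdeal := by
  classical
  induction s using Finset.strongInduction with
  | _ s ih => ?_
  intro hs
  rcases s.eq_empty_or_nonempty with rfl | hne
  · exact ⟨1, 0, one_pos, zero_mem _, zero_mem I, by simp⟩
  obtain ⟨x, hxm⟩ := Finset.exists_minimal hne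
  have hx : x ∈ s := hxm.prop
  obtain ⟨d, f, hd, hf, hfI, hfs⟩ := ih (s.erase x) (Finset.erase_ssubset hx) fun y hy => hs y (Finset.mem_of_mem_erase hy)
  by_cases hfx : f ∈ x.asHomogeneousIdeal
  swap
  · exact ⟨d, f, hd, hf, hfI, fun y hy => if e : y = x then e ▸ hfx else hfs y (Finset.mem_erase.2 ⟨e, hy⟩)⟩
  haveI := x.isPrime
  obtain ⟨e₁, a, ha, haI, hax⟩ := exists_homogeneous 𝒜 I.toIdeal I.isHomogeneous _ (hs x hx)
  obtain ⟨e₂, b, hb, hbI, hbx⟩ := exists_homogeneous 𝒜 _ (HomogeneousIdeal.irrelevant 𝒜).isHomogeneous _ x.not_irrelevant_le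
  have he₂ : 0 < e₂ := Nat.pos_of_ne_zero fun h => hbx (by
    subst h
    have h0 := (HomogeneousIdeal.mem_irrelevant_iff 𝒜 b).1 hbI
    rw [GradedRing.proj_apply, DirectSum.decompose_of_mem_same 𝒜 hb] at h0
    rw [h0]; exact zero_mem _)
  have hsel : ∀ y ∈ s.erase x, ∃ e c, c ∈ 𝒜 e ∧ c ∈ y.asHomogeneousIdeal.toIdeal ∧ c ∉ x.asHomogeneousIdeal.toIdeal := fun y hy =>
    exists_homogeneous 𝒜 _ y.asHomogeneousIdeal.isHomogeneous _ fun hle =>
      (Finset.mem_erase.1 hy).1 (le_antisymm (show y ≤ x from hle) (hxm.le_of_le (Finset.mem_of_mem_erase hy) (show y ≤ x from hle)))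
  choose e c hc hcy hcx using hsel
  let g := a * b * ∏ y ∈ (s.erase x).attach, c y.1 y.2
  let n := e₁ + e₂ + ∑ y ∈ (s.erase x).attach, e y.1 y.2
  have hg : g ∈ 𝒜 n := SetLike.mul_mem_graded (SetLike.mul_mem_graded ha hb) (SetLike.prod_mem_graded _ _ _ fun y _ => hc y.1 y.2)
  have hgx : g ∉ x.asHomogeneousIdeal.toIdeal := fun h => by
    rcases x.isPrime.mem_or_mem h with h | h
    · exact (x.isPrime.mem_or_mem h).elim hax hbx
    · obtain ⟨y, -, hy⟩ := Ideal.IsPrime.prod_mem_iff.1 h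
      exact hcx y.1 y.2 hy
  refine ⟨d * n, f ^ n + g ^ d, Nat.mul_pos hd (by omega), add_mem ?_ ?_, ?_, fun y hy hm => ?_⟩
  · simpa [mul_comm] using SetLike.pow_mem_graded n hf
  · simpa [mul_comm] using SetLike.pow_mem_graded d hg
  · exact I.toIdeal.add_mem (I.toIdeal.pow_mem_of_mem hfI n (by omega)) (I.toIdeal.pow_mem_of_mem (I.toIdeal.mul_mem_right _ (I.toIdeal.mul_mem_right _ haI)) d hd)
  · haveI := y.isPrime
    by_cases hyx : y = x
    · subst hyx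
      exact hgx (y.isPrime.mem_of_pow_mem d ((Ideal.add_mem_iff_right _ (Ideal.pow_mem_of_mem _ hfx n (by omega))).1 hm))
    · have hy' : y ∈ s.erase x := Finset.mem_erase.2 ⟨hyx, hy⟩
      have hgy : g ∈ y.asHomogeneousIdeal.toIdeal := Ideal.mul_mem_left _ _
        (Ideal.IsPrime.prod_mem_iff.2 ⟨⟨y, hy'⟩, Finset.mem_attach _ _, hcy y hy'⟩)
      exact hfs y hy' (y.isPrime.mem_of_pow_mem n ((Ideal.add_mem_iff_left _ (Ideal.pow_mem_of_mem _ hgy d hd)).1 hm))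

theorem exists_basicOpen (U : (Proj 𝒜).Opens) (Z : Set (Proj 𝒜)) (hZ : Z.Finite) (hZU : Z ⊆ U) :
    ∃ V : (Proj 𝒜).Opens, IsAffineOpen V ∧ Z ⊆ V ∧ V ≤ U := by
  classical
  let C : Set (ProjectiveSpectrum 𝒜) := (U : Set (Proj 𝒜))ᶜ
  obtain ⟨d, f, hd, hf, hfI, hfs⟩ := exists_avoid 𝒜 (ProjectiveSpectrum.vanishingIdeal C) hZ.toFinset fun x hx hle => by
    have hx' : x ∈ closure C := by
      rw [← ProjectiveSpectrum.zeroLocus_vanishingIdeal_eq_closure]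
      exact hle
    rw [(show IsClosed C from U.2.isClosed_compl).closure_eq] at hx'
    exact hx' (hZU (hZ.mem_toFinset.1 hx))
  refine ⟨Proj.basicOpen 𝒜 f, Proj.isAffineOpen_basicOpen 𝒜 f hf hd, fun x hx => hfs x (hZ.mem_toFinset.2 hx), fun x hx => ?_⟩
  by_contra hxU
  exact hx ((ProjectiveSpectrum.mem_vanishingIdeal C f).1 hfI x hxU)

end Groth.Agent.ProjAvoid
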